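import Cfsg.Agent.H7.Fi23E10.T

set_option autoImplicit false
set_option linter.unusedVariables false
set_option maxRecDepth 100000
set_option Elab.async false

namespace CfsgH7.Fi23.E10

theorem c0 : TC.rowsOk T 720 10 RT 60 69 41070 10 0 61 = true := by decide +kernel
theorem c61 : TC.rowsOk T 720 10 RT 60 69 41070 10 61 70 = true := by decide +kernel
theorem c131 : TC.rowsOk T 720 10 RT 60 69 41070 10 131 73 = true := by decide +kernel
theorem c204 : TC.rowsOk T 720 10 RT 60 69 41070 10 204 76 = true := by decide +kernel
theorem c280 : TC.rowsOk T 720 10 RT 60 69 41070 10 280 76 = true := by decide +kernel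

end CfsgH7.Fi23.E10
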