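import Cfsg.Agent.H7.Fi23E10.T

set_option autoImplicit false
set_option linter.unusedVariables false
set_option maxRecDepth 100000
set_option Elab.async false

namespace CfsgH7.Fi23.E10

theorem c356 : TC.rowsOk T 720 10 RT 60 69 41070 10 356 59 = true := by decide +kernel
theorem c415 : TC.rowsOk T 720 10 RT 60 69 41070 10 415 59 = true := by decide +kernel
theorem c474 : TC.rowsOk T 720 10 RT 60 69 41070 10 474 59 = true := by decide +kernel
theorem c533 : TC.rowsOk T 720 10 RT 60 69 41070 10 533 61 = true := by decide +kernel
theorem c594 : TC.rowsOk T 720 10 RT 60 69 41070 10 594 48 = true := by decide +kernel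

end CfsgH7.Fi23.E10
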