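import Cfsg.Agent.H7.Fi23E10.T

set_option autoImplicit false
set_option linter.unusedVariables false
set_option maxRecDepth 100000
set_option Elab.async false

namespace CfsgH7.Fi23.E10

theorem n0 : TC.cntLive T 720 10 41070 0 642 = 31671 := by decide +kernel

end CfsgH7.Fi23.E10
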