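import Cfsg.Agent.H7.Fi23.A
import Cfsg.Agent.H7.Fi23E10.C0
import Cfsg.Agent.H7.Fi23E10.C1
import Cfsg.Agent.H7.Fi23E10.C2

set_option autoImplicit false
set_option linter.unusedVariables false
set_option maxRecDepth 100000
set_option Elab.async false

namespace CfsgH7.Fi23.E10

theorem a61 : ∀ c < 41070, c < 64 * 61 → TC.rowOk T 720 10 RT 60 69 41070 10 c = true :=
  TC.rows_step TC.rows_zero c0 rfl
theorem a131 : ∀ c < 41070, c < 64 * 131 → TC.rowOk T 720 10 RT 60 69 41070 10 c = true :=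
  TC.rows_step a61 c61 rfl
theorem a204 : ∀ c < 41070, c < 64 * 204 → TC.rowOk T 720 10 RT 60 69 41070 10 c = true :=
  TC.rows_step a131 c131 rfl
theorem a280 : ∀ c < 41070, c < 64 * 280 → TC.rowOk T 720 10 RT 60 69 41070 10 c = true :=
  TC.rows_step a204 c204 rfl
theorem a356 : ∀ c < 41070, c < 64 * 356 → TC.rowOk T 720 10 RT 60 69 41070 10 c = true :=
  TC.rows_step a280 c280 rfl
theorem a415 : ∀ c < 41070, c < 64 * 415 → TC.rowOk T 720 10 RT 60 69 41070 10 c = true :=
  TC.rows_step a356 c356 rfl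
theorem a474 : ∀ c < 41070, c < 64 * 474 → TC.rowOk T 720 10 RT 60 69 41070 10 c = true :=
  TC.rows_step a415 c415 rfl
theorem a533 : ∀ c < 41070, c < 64 * 533 → TC.rowOk T 720 10 RT 60 69 41070 10 c = true :=
  TC.rows_step a474 c474 rfl
theorem a594 : ∀ c < 41070, c < 64 * 594 → TC.rowOk T 720 10 RT 60 69 41070 10 c = true :=
  TC.rows_step a533 c533 rfl
theorem a642 : ∀ c < 41070, c < 64 * 642 → TC.rowOk T 720 10 RT 60 69 41070 10 c = true :=
  TC.rows_step a594 c594 rfl
theorem b642 : (TC.liveSet T 720 10 41070 642).card = 31671 :=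
  TC.live_step TC.live_zero n0 rfl rfl
theorem enum : Enum Fi23.R10 S 10 31671 T 720 10 :=
  TC.enum (RT := RT) (nR := 60) (nS := 69) (by norm_num) (by norm_num) (by norm_num)
    (by decide +kernel) a642 b642

end CfsgH7.Fi23.E10
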